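import Groth.Agent.TorSmooth.Basic
import Groth.Agent.TorBridge.FirstVar

/-!
# Tor over a hypersurface: periodicity and annihilation by derivatives of the equation
-/

set_option autoImplicit false
set_option linter.style.haveILetI false

universe u

open CategoryTheory CategoryTheory.Limits TensorProduct

namespace Groth.Agent.TorSmooth

open Groth.Agent.H9Misc Groth.Agent.PerfMor

section General

variable {R : Type u} [CommRing R]

/-- Dimension shift along a presentation by a flat module. -/
theorem exists_shift {K F M : Type u} [AddCommGroup K] [Module R K] [AddCommGroup F] [Module R F] [Module.Flat R F]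
    [AddCommGroup M] [Module R M] (f : K →ₗ[R] F) (g : F →ₗ[R] M) (hf : Function.Injective f)
    (hex : Function.Exact f g) (hg : Function.Surjective g) (N : Type u) [AddCommGroup N] [Module R N]
    {q : ℕ} (hq : 1 ≤ q) : Nonempty (DRing.Tor R (q + 1) M N ≃ₗ[R] DRing.Tor R q K N) := by
  let P : ProjectiveResolution (ModuleCat.of R N) := ProjectiveResolution.of _
  let C : ModuleCat.{u} R → ChainComplex (ModuleCat.{u} R) ℕ := fun X =>
    ((TorBridge.tenF X).mapHomologicalComplex (ComplexShape.down ℕ)).obj P.complex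
  let a : C (ModuleCat.of R K) ⟶ C (ModuleCat.of R F) :=
    (NatTrans.mapHomologicalComplex ((MonoidalCategory.tensoringLeft (ModuleCat.{u} R)).map (ModuleCat.ofHom f))
      (ComplexShape.down ℕ)).app P.complex
  let b : C (ModuleCat.of R F) ⟶ C (ModuleCat.of R M) :=
    (NatTrans.mapHomologicalComplex ((MonoidalCategory.tensoringLeft (ModuleCat.{u} R)).map (ModuleCat.ofHom g))
      (ComplexShape.down ℕ)).app P.complex
  have hab : a ≫ b = 0 := by
    refine HomologicalComplex.hom_ext _ _ fun j => ModuleCat.hom_ext ?_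
    show g.rTensor (P.complex.X j) ∘ₗ f.rTensor (P.complex.X j) = 0
    rw [← LinearMap.rTensor_comp, hex.linearMap_comp_eq_zero, LinearMap.rTensor_zero]
  have hT : (ShortComplex.mk a b hab).ShortExact := by
    refine HomologicalComplex.shortExact_of_degreewise_shortExact _ fun j => ?_
    haveI : Module.Projective R (P.complex.X j) := (IsProjective.iff_projective _).2 (P.projective j)
    exact
      { exact := (ShortComplex.ShortExact.moduleCat_exact_iff_function_exact _).2
          (rTensor_exact (P.complex.X j) hex hg)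
        mono_f := (ModuleCat.mono_iff_injective _).2
          (Module.Flat.rTensor_preserves_injective_linearMap (M := P.complex.X j) f hf)
        epi_g := (ModuleCat.epi_iff_surjective _).2 (LinearMap.rTensor_surjective (P.complex.X j) hg) }
  have hF : ∀ j, 1 ≤ j → IsZero ((C (ModuleCat.of R F)).homology j) := fun j hj => by
    obtain ⟨i, rfl⟩ : ∃ i, j = i + 1 := ⟨j - 1, by omega⟩
    exact (Iso.isZero_iff (P.isoLeftDerivedObj (TorBridge.tenF (ModuleCat.of R F)) (i + 1))).1
      (TorBridge.isZero_tor_succ_of_flat (ModuleCat.of R F) (ModuleCat.of R N) i)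
  exact ⟨(P.isoLeftDerivedObj (TorBridge.tenF (ModuleCat.of R M)) (q + 1) ≪≫
    hT.δIso (q + 1) q rfl (hF _ (by omega)) (hF _ hq) ≪≫
    (P.isoLeftDerivedObj (TorBridge.tenF (ModuleCat.of R K)) q).symm).toLinearEquiv⟩

/-- A scalar factoring through a flat module kills higher `Tor`. -/
theorem smul_tor_eq_zero_of_factor {M F : Type u} [AddCommGroup M] [Module R M] [AddCommGroup F] [Module R F]
    [Module.Flat R F] (a : M →ₗ[R] F) (b : F →ₗ[R] M) (r : R) (h : ∀ x, b (a x) = r • x)
    (N : Type u) [AddCommGroup N] [Module R N] (i : ℕ) (z : DRing.Tor R (i + 1) M N) : r • z = 0 := by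
  let P : ProjectiveResolution (ModuleCat.of R N) := ProjectiveResolution.of _
  let C : ModuleCat.{u} R → ChainComplex (ModuleCat.{u} R) ℕ := fun X =>
    ((TorBridge.tenF X).mapHomologicalComplex (ComplexShape.down ℕ)).obj P.complex
  let α : C (ModuleCat.of R M) ⟶ C (ModuleCat.of R F) :=
    (NatTrans.mapHomologicalComplex ((MonoidalCategory.tensoringLeft (ModuleCat.{u} R)).map (ModuleCat.ofHom a))
      (ComplexShape.down ℕ)).app P.complex
  let β : C (ModuleCat.of R F) ⟶ C (ModuleCat.of R M) :=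
    (NatTrans.mapHomologicalComplex ((MonoidalCategory.tensoringLeft (ModuleCat.{u} R)).map (ModuleCat.ofHom b))
      (ComplexShape.down ℕ)).app P.complex
  have hαβ : α ≫ β = r • 𝟙 (C (ModuleCat.of R M)) := by
    refine HomologicalComplex.hom_ext _ _ fun j => ModuleCat.hom_ext ?_
    show b.rTensor (P.complex.X j) ∘ₗ a.rTensor (P.complex.X j) = r • LinearMap.id
    rw [← LinearMap.rTensor_comp, show b ∘ₗ a = r • LinearMap.id from LinearMap.ext h, LinearMap.rTensor_smul,
      LinearMap.rTensor_id]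
  have hF : IsZero ((C (ModuleCat.of R F)).homology (i + 1)) :=
    (Iso.isZero_iff (P.isoLeftDerivedObj (TorBridge.tenF (ModuleCat.of R F)) (i + 1))).1
      (TorBridge.isZero_tor_succ_of_flat (ModuleCat.of R F) (ModuleCat.of R N) i)
  let e := (P.isoLeftDerivedObj (TorBridge.tenF (ModuleCat.of R M)) (i + 1)).toLinearEquiv
  have h1 : HomologicalComplex.homologyMap (r • 𝟙 (C (ModuleCat.of R M))) (i + 1) = 0 := by
    rw [← hαβ, HomologicalComplex.homologyMap_comp, hF.eq_of_tgt (HomologicalComplex.homologyMap α (i + 1)) 0, zero_comp]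
  refine e.injective (((map_smul e r z).trans ?_).trans (map_zero e).symm)
  obtain ⟨w, hw⟩ := (ModuleCat.epi_iff_surjective ((C (ModuleCat.of R M)).homologyπ (i + 1))).1 inferInstance (e z)
  have h2 := ConcreteCategory.congr_hom (HomologicalComplex.homologyπ_naturality (r • 𝟙 (C (ModuleCat.of R M))) (i + 1)) w
  rw [h1] at h2
  refine (congrArg (r • ·) hw.symm).trans ?_
  refine (map_smul ((C (ModuleCat.of R M)).homologyπ (i + 1)).hom r w).symm.trans ?_
  rw [show r • w = (HomologicalComplex.cyclesMap (r • 𝟙 (C (ModuleCat.of R M))) (i + 1)).hom w from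
    (ModuleCat.mono_iff_injective ((C (ModuleCat.of R M)).iCycles (i + 1))).1 inferInstance ?_]
  · exact h2.symm
  · refine (map_smul ((C (ModuleCat.of R M)).iCycles (i + 1)).hom r w).trans ?_
    exact (ConcreteCategory.congr_hom (HomologicalComplex.cyclesMap_i (r • 𝟙 (C (ModuleCat.of R M))) (i + 1)) w).symm

end General

section Hypersurface

variable {B R : Type u} [CommRing B] [CommRing R] [Algebra B R] (g : B) (hg : IsSMulRegular B g)
  (hsurj : Function.Surjective (algebraMap B R)) (hker : RingHom.ker (algebraMap B R) = Ideal.span {g})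

include hsurj hker in
theorem one_tmul_eq_zero_iff {F : Type u} [AddCommGroup F] [Module B F] (x : F) :
    (1 : R) ⊗ₜ[B] x = 0 ↔ ∃ y, x = g • y := by
  let e : (B ⧸ RingHom.ker (Algebra.ofId B R)) ≃ₐ[B] R :=
    Ideal.quotientKerAlgEquivOfSurjective (f := Algebra.ofId B R) hsurj
  let e' := (TensorProduct.congr e.symm.toLinearEquiv (LinearEquiv.refl B F)).trans
    (TensorProduct.quotTensorEquivQuotSMul F _)
  have h1 : e' ((1 : R) ⊗ₜ[B] x) = Submodule.Quotient.mk x := by
    show TensorProduct.quotTensorEquivQuotSMul F _ ((e.symm 1) ⊗ₜ[B] x) = _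
    rw [map_one]
    simp
  rw [← e'.map_eq_zero_iff, h1, Submodule.Quotient.mk_eq_zero,
    show RingHom.ker (Algebra.ofId B R) = Ideal.span {g} from hker, Submodule.ideal_span_singleton_smul]
  exact ⟨fun h => by obtain ⟨y, -, rfl⟩ := h; exact ⟨y, rfl⟩, fun ⟨y, hy⟩ => ⟨y, trivial, hy.symm⟩⟩

/-- The periodicity and annihilation statement in degree `≥ d`, for modules of flat dimension `≤ d` over `B`. -/
def Goal (D : Derivation ℤ B B) (d : ℕ) : Prop :=
  ∀ (M : Type u) [AddCommGroup M] [Module R M] [Module B M] [IsScalarTower B R M],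
    DRing.HasTorDimLE B d M → ∀ (N : Type u) [AddCommGroup N] [Module R N],
      (∀ q, d ≤ q → ∀ z : DRing.Tor R q M N, algebraMap B R (D g) • z = 0) ∧
        ∀ q, d ≤ q → 1 ≤ q → Nonempty (DRing.Tor R (q + 2) M N ≃ₗ[R] DRing.Tor R q M N)

include hsurj hker in
theorem g_smul_eq_zero {M : Type u} [AddCommGroup M] [Module R M] [Module B M] [IsScalarTower B R M] (x : M) :
    g • x = 0 := by
  rw [← algebraMap_smul R, show algebraMap B R g = 0 from RingHom.mem_ker.1 (hker.ge (Ideal.mem_span_singleton_self g)),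
    zero_smul]

include hg hsurj hker in
theorem goal_one (D : Derivation ℤ B B) : Goal (R := R) g D 1 := by
  classical
  intro M _ _ _ _ hM N _ _
  let q : (M →₀ B) →ₗ[B] M := Finsupp.linearCombination B id
  have hq : Function.Surjective q := Finsupp.linearCombination_id_surjective B M
  let F1 := LinearMap.ker q
  haveI : Module.Flat B F1 := (DRingTor.torDimLE_zero_iff (ModuleCat.of B F1)).1
    (torDimLE_of_torExactFrom (Synt29.torExactFrom_ker q hq (Synt29.torExactFrom_of_hasTorDimLE hM)))
  have hgM := g_smul_eq_zero (R := R) g hsurj hker (M := M)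
  have hgF : ∀ e : M →₀ B, g • e ∈ F1 := fun e => by
    rw [LinearMap.mem_ker, map_smul, hgM]
  have hgreg : ∀ e : M →₀ B, g • e = 0 → e = 0 := fun e he => Finsupp.ext fun i => hg.right_eq_zero_of_smul (by
    simpa using DFunLike.congr_fun he i)
  have hR : Function.Surjective (algebraMap B R) := hsurj
  have hone : ∀ {F : Type u} [AddCommMonoid F] [Module B F] (z : R ⊗[B] F), ∃ x, z = (1 : R) ⊗ₜ[B] x := fun z => by
    induction z using TensorProduct.induction_on with
    | zero => exact ⟨0, (TensorProduct.tmul_zero _ _).symm⟩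
    | tmul r x =>
      obtain ⟨b, rfl⟩ := hR r
      exact ⟨b • x, by rw [TensorProduct.tmul_smul, TensorProduct.smul_tmul', Algebra.smul_def, mul_one]⟩
    | add a b ha hb =>
      obtain ⟨x, rfl⟩ := ha
      obtain ⟨y, rfl⟩ := hb
      exact ⟨x + y, (TensorProduct.tmul_add _ _ _).symm⟩
  -- the maps
  let ψ0 : (M →₀ B) →ₗ[B] R ⊗[B] F1 :=
    (TensorProduct.mk B R F1 1).comp ((g • LinearMap.id (R := B) (M := M →₀ B)).codRestrict F1 hgF)
  have hψ0 : LinearMap.ker q ≤ LinearMap.ker ψ0 := fun e he => by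
    show (1 : R) ⊗ₜ[B] (⟨g • e, hgF e⟩ : F1) = 0
    exact (one_tmul_eq_zero_iff g hsurj hker _).2 ⟨(⟨e, he⟩ : F1), rfl⟩
  let ψB : M →ₗ[B] R ⊗[B] F1 := ((LinearMap.ker q).liftQ ψ0 hψ0).comp (q.quotKerEquivOfSurjective hq).symm.toLinearMap
  have hψq : ∀ e, ψB (q e) = ψ0 e := fun e => by
    show (LinearMap.ker q).liftQ ψ0 hψ0 ((q.quotKerEquivOfSurjective hq).symm (q e)) = _
    rw [show (q.quotKerEquivOfSurjective hq).symm (q e) = Submodule.Quotient.mk e from
      (LinearEquiv.symm_apply_eq _).2 rfl]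
    rfl
  let ψ : M →ₗ[R] R ⊗[B] F1 := ψB.extendScalarsOfSurjective hR
  let φb : R ⊗[B] F1 →ₗ[R] R ⊗[B] (M →₀ B) := F1.subtype.baseChange R
  let π : R ⊗[B] (M →₀ B) →ₗ[R] M := q.liftBaseChange R
  have hπ : ∀ e, π ((1 : R) ⊗ₜ[B] e) = q e := fun e => by simp [π]
  have hπsurj : Function.Surjective π := fun x => by
    obtain ⟨e, rfl⟩ := hq x
    exact ⟨_, hπ e⟩
  have hψinj : Function.Injective ψ := by
    rw [injective_iff_map_eq_zero]
    intro x hx
    obtain ⟨e, rfl⟩ := hq x
    have hx' : ψB (q e) = 0 := hx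
    rw [hψq] at hx'
    change (1 : R) ⊗ₜ[B] (⟨g • e, hgF e⟩ : F1) = 0 at hx'
    obtain ⟨y, hy⟩ := (one_tmul_eq_zero_iff (F := ↥F1) g hsurj hker _).1 hx'
    have hy' : g • e = g • y.1 := congrArg Subtype.val hy
    have he : e = y.1 := sub_eq_zero.1 (hgreg _ (by rw [smul_sub, hy', sub_self]))
    rw [he]
    exact y.2
  have hφπ : Function.Exact φb π := fun z => by
    refine ⟨fun hz => ?_, fun ⟨w, hw⟩ => ?_⟩
    · obtain ⟨e, rfl⟩ := hone z
      rw [hπ] at hz
      exact ⟨(1 : R) ⊗ₜ[B] (⟨e, hz⟩ : F1), rfl⟩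
    · obtain ⟨x, rfl⟩ := hone w
      rw [← hw, show φb ((1 : R) ⊗ₜ[B] x) = (1 : R) ⊗ₜ[B] x.1 from rfl, hπ]
      exact x.2
  have hψφ : Function.Exact ψ φb := fun z => by
    refine ⟨fun hz => ?_, fun ⟨x, hx⟩ => ?_⟩
    · obtain ⟨x, rfl⟩ := hone z
      obtain ⟨e, he⟩ := (one_tmul_eq_zero_iff g hsurj hker x.1).1 hz
      refine ⟨q e, ?_⟩
      show ψB (q e) = _
      rw [hψq]
      exact congrArg (fun y : F1 => (1 : R) ⊗ₜ[B] y) (Subtype.ext he.symm)
    · obtain ⟨e, rfl⟩ := hq x
      rw [← hx, show ψ (q e) = ψB (q e) from rfl, hψq]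
      exact (one_tmul_eq_zero_iff g hsurj hker (g • e)).2 ⟨e, rfl⟩
  -- the homotopy
  let nab : (M →₀ B) → M →₀ B := fun e => e.mapRange D D.map_zero
  have hnab_add : ∀ e e', nab (e + e') = nab e + nab e' := fun e e' => Finsupp.mapRange_add (map_add D) _ _
  have hnab_smul : ∀ (b : B) e, nab (b • e) = b • nab e + D b • e := fun b e => Finsupp.ext fun i => by
    simp [nab, Derivation.leibniz, mul_comm]
  let hB : F1 →ₗ[B] M :=
    { toFun := fun x => q (nab x.1)
      map_add' := fun x y => by rw [Submodule.coe_add, hnab_add, map_add]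
      map_smul' := fun b x => by
        rw [Submodule.coe_smul, hnab_smul, map_add, map_smul, map_smul, LinearMap.mem_ker.1 x.2, smul_zero, add_zero,
          RingHom.id_apply] }
  let hH : R ⊗[B] F1 →ₗ[R] M := hB.liftBaseChange R
  have hfac : ∀ x, hH (ψ x) = algebraMap B R (D g) • x := fun x => by
    obtain ⟨e, rfl⟩ := hq x
    rw [show ψ (q e) = ψB (q e) from rfl, hψq, algebraMap_smul,
      show hH (ψ0 e) = hB ⟨g • e, hgF e⟩ from by simp [hH, ψ0]; rfl]
    show q (nab (g • e)) = _
    rw [hnab_smul, map_add, map_smul, map_smul, hgM, zero_add]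
  refine ⟨fun i hi z => ?_, fun i hi _ => ?_⟩
  · obtain ⟨j, rfl⟩ : ∃ j, i = j + 1 := ⟨i - 1, by omega⟩
    exact smul_tor_eq_zero_of_factor ψ hH _ hfac N j z
  · let I := LinearMap.ker π
    let φ' : R ⊗[B] F1 →ₗ[R] I := φb.codRestrict I fun w => hφπ.apply_apply_eq_zero w
    have h1 : Function.Exact ψ φ' := fun z => by
      rw [← hψφ z]
      exact ⟨fun h => congrArg Subtype.val h, fun h => Subtype.ext h⟩
    have h2 : Function.Surjective φ' := fun z => by
      obtain ⟨w, hw⟩ := (hφπ z.1).1 z.2
      exact ⟨w, Subtype.ext hw⟩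
    obtain ⟨e1⟩ := exists_shift (K := ↥I) I.subtype π Subtype.val_injective (LinearMap.exact_subtype_ker_map π) hπsurj N
      (q := i + 1) (by omega)
    obtain ⟨e2⟩ := exists_shift (M := ↥I) ψ φ' hψinj h1 h2 N (q := i) hi
    exact ⟨e1.trans e2⟩

include hg hsurj hker in
theorem goal (D : Derivation ℤ B B) : ∀ d, Goal (R := R) g D d
  | 0 => fun M _ _ _ _ hM N _ _ => by
    haveI : Module.Flat B M := (DRingTor.torDimLE_zero_iff (ModuleCat.of B M)).1 hM
    have : Subsingleton M := subsingleton_of_forall_eq 0 fun x => by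
      have h : IsSMulRegular M g := Module.Flat.isSMulRegular_of_nonZeroDivisors
        (mem_nonZeroDivisors_iff_right.2 fun y hy => hg.right_eq_zero_of_smul (by rwa [smul_eq_mul, mul_comm]))
      exact h.right_eq_zero_of_smul (g_smul_eq_zero (R := R) g hsurj hker x)
    haveI : ∀ q, Subsingleton (DRing.Tor R q M N) := fun q => H23.ChiAdd.tor_zero_of_subsingleton M N q
    exact ⟨fun q _ z => Subsingleton.elim _ _, fun q _ _ => ⟨LinearEquiv.ofSubsingleton _ _⟩⟩
  | 1 => goal_one g hg hsurj hker D
  | d + 2 => fun M _ _ _ _ hM N _ _ => by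
    classical
    let π : (M →₀ R) →ₗ[R] M := Finsupp.linearCombination R id
    have hπ : Function.Surjective π := Finsupp.linearCombination_id_surjective R M
    -- flat dimension of the free module
    let i : (M →₀ B) →ₗ[B] (M →₀ B) := g • LinearMap.id
    let q : (M →₀ B) →ₗ[B] (M →₀ R) := Finsupp.mapRange.linearMap (Algebra.linearMap B R)
    have hF : DRing.HasTorDimLE B 1 (M →₀ R) := by
      refine torDimLE_of_exact i q ?_ ?_ ?_ ((DRingTor.torDimLE_zero_iff (ModuleCat.of B (M →₀ B))).2 inferInstance)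
        (torDimLE_mono (Nat.zero_le _) ((DRingTor.torDimLE_zero_iff (ModuleCat.of B (M →₀ B))).2 inferInstance))
      · intro a b hab
        exact Finsupp.ext fun j => hg (by simpa [i] using DFunLike.congr_fun hab j)
      · exact Finsupp.mapRange_surjective _ (map_zero _) hsurj
      · intro z
        constructor
        · intro hz
          have hz' : ∀ j, z j ∈ Ideal.span {g} := fun j => hker ▸ RingHom.mem_ker.2 (by
            simpa [q] using DFunLike.congr_fun hz j)
          choose c hc using fun j => Ideal.mem_span_singleton'.1 (hz' j)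
          refine ⟨Finsupp.onFinset z.support (fun j => if z j = 0 then 0 else c j)
            (fun j hj => Finsupp.mem_support_iff.2 fun h => hj (if_pos h)), Finsupp.ext fun j => ?_⟩
          show g * (if z j = 0 then 0 else c j) = z j
          split_ifs with h
          · rw [mul_zero, h]
          · rw [mul_comm, hc]
        · rintro ⟨w, rfl⟩
          exact Finsupp.ext fun j => by
            simp [q, i, Algebra.smul_def,
              show algebraMap B R g = 0 from RingHom.mem_ker.1 (hker.ge (Ideal.mem_span_singleton_self g))]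
    have hK : DRing.HasTorDimLE B (d + 1) (LinearMap.ker π) := by
      intro N' _ _ p hp
      have hM' := hM N' (p + 1) (by omega)
      have hF' := hF N' p (by omega)
      let S : ShortComplex (ModuleCat.{u} B) := FlatSyz5.kerSeq (π.restrictScalars B)
      exact ModuleCat.isZero_iff_subsingleton.1 (TorBridge.isZero_tor_first S (FlatSyz5.kerSeq_shortExact hπ)
        (ModuleCat.of B N') p (ModuleCat.isZero_iff_subsingleton.2 hM') (ModuleCat.isZero_iff_subsingleton.2 hF'))
    obtain ⟨h1, h2⟩ := goal D (d + 1) (LinearMap.ker π) hK N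
    have sh : ∀ q, 1 ≤ q → Nonempty (DRing.Tor R (q + 1) M N ≃ₗ[R] DRing.Tor R q (LinearMap.ker π) N) := fun q hq =>
      exists_shift (LinearMap.ker π).subtype π Subtype.val_injective (LinearMap.exact_subtype_ker_map π) hπ N hq
    refine ⟨fun q hq z => ?_, fun q hq _ => ?_⟩
    · obtain ⟨j, rfl⟩ : ∃ j, q = j + 1 := ⟨q - 1, by omega⟩
      obtain ⟨e⟩ := sh j (by omega)
      exact e.injective (by rw [map_smul, map_zero, h1 j (by omega)])
    · obtain ⟨j, rfl⟩ : ∃ j, q = j + 1 := ⟨q - 1, by omega⟩
      obtain ⟨e⟩ := sh j (by omega)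
      obtain ⟨e'⟩ := sh (j + 2) (by omega)
      obtain ⟨e''⟩ := h2 j (by omega) (by omega)
      exact ⟨(e'.trans e'').trans e.symm⟩

end Hypersurface

end Groth.Agent.TorSmooth
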