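import Mathlib
import Groth.Agent.PerfMor.Ftd
import Groth.Agent.FlatSyz5.Dim
import Groth.Agent.H23.ChiAdd
import Groth.Agent.S2428

/-!
# Flat dimension along smooth ring maps
-/

set_option autoImplicit false
set_option linter.style.haveILetI false

universe u

open CategoryTheory CategoryTheory.Limits TensorProduct Polynomial

namespace Groth.Agent.TorSmooth

open Groth.Agent.H9Misc Groth.Agent.PerfMor

/-- Tor dimension passes to retracts. -/
theorem torDimLE_of_retract {A : Type u} [CommRing A] {M M' : Type u} [AddCommGroup M] [Module A M]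
    [AddCommGroup M'] [Module A M'] (s : M' →ₗ[A] M) (r : M →ₗ[A] M') (h : r ∘ₗ s = LinearMap.id) {d : ℕ}
    (hM : DRing.HasTorDimLE A d M) : DRing.HasTorDimLE A d M' := by
  intro N _ _ p hp
  haveI := hM N p hp
  let F : ModuleCat.{u} A ⥤ ModuleCat.{u} A := (Tor (ModuleCat.{u} A) p).flip.obj (ModuleCat.of A N)
  have h1 : F.map (ModuleCat.ofHom s) ≫ F.map (ModuleCat.ofHom r) = 𝟙 _ := by
    rw [← F.map_comp, ← F.map_id]
    exact congrArg F.map (ModuleCat.hom_ext h)
  refine subsingleton_of_forall_eq 0 fun z => ?_
  have h2 : (F.map (ModuleCat.ofHom r)).hom ((F.map (ModuleCat.ofHom s)).hom z) = z :=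
    ConcreteCategory.congr_hom h1 z
  rw [← h2, show (F.map (ModuleCat.ofHom s)).hom z = 0 from Subsingleton.elim (α := DRing.Tor A p M N) _ _, map_zero]

/-- Tor dimension does not grow along flat unramified maps. -/
theorem torDimLE_of_unramified (C B : Type u) [CommRing C] [CommRing B] [Algebra C B] [Module.Flat C B]
    [Algebra.FormallyUnramified C B] [Algebra.EssFiniteType C B] {d : ℕ} (K : Type u) [AddCommGroup K]
    [Module B K] [Module C K] [IsScalarTower C B K] (h : DRing.HasTorDimLE C d K) : DRing.HasTorDimLE B d K :=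
  torDimLE_of_retract (Algebra.FormallyUnramified.sec C B K) _
    (Algebra.FormallyUnramified.comp_sec (R := C) (S := B) (M := K))
    (PerfMor.torDimLE_baseChange C B d K h)

/-- One polynomial variable raises the tor dimension by at most one. -/
theorem torDimLE_polynomial (A : Type u) [CommRing A] {j : ℕ} (K : Type u) [AddCommGroup K] [Module A[X] K]
    [Module A K] [IsScalarTower A A[X] K] (h : DRing.HasTorDimLE A j K) :
    DRing.HasTorDimLE A[X] (j + 1) K := by
  let x : K →ₗ[A] K := (LinearMap.lsmul A[X] K X).restrictScalars A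
  let u : A[X] ⊗[A] K →ₗ[A[X]] A[X] ⊗[A] K := (LinearMap.lsmul A[X] _ X) - x.baseChange A[X]
  let μ : A[X] ⊗[A] K →ₗ[A[X]] K := (LinearMap.id (R := A) (M := K)).liftBaseChange A[X]
  have hμ : ∀ (p : A[X]) (k : K), μ (p ⊗ₜ k) = p • k := fun p k => by simp [μ]
  have hu : ∀ (p : A[X]) (k : K), u (p ⊗ₜ k) = (X * p) ⊗ₜ k - p ⊗ₜ (X • k) := fun p k => by
    simp [u, x, TensorProduct.smul_tmul']
    rfl
  have hμu : ∀ z, μ (u z) = 0 := fun z => by
    induction z using TensorProduct.induction_on with
    | zero => simp
    | add a b ha hb => rw [map_add, map_add, ha, hb, add_zero]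
    | tmul p k => rw [hu, map_sub, hμ, hμ, mul_comm, mul_smul, sub_self]
  have hex : Function.Exact u μ := fun z => ⟨fun hz => ?_, fun ⟨w, hw⟩ => hw ▸ hμu w⟩
  swap
  · suffices H : z - (1 : A[X]) ⊗ₜ[A] μ z ∈ LinearMap.range u by
      rwa [hz, TensorProduct.tmul_zero, sub_zero] at H
    clear hz
    induction z using TensorProduct.induction_on with
    | zero => simp
    | add a b ha hb => rw [map_add, TensorProduct.tmul_add, add_sub_add_comm]; exact add_mem ha hb
    | tmul p k =>
      rw [hμ]
      induction p using Polynomial.induction_on' generalizing k with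
      | add p q hp hq =>
        rw [TensorProduct.add_tmul, add_smul, TensorProduct.tmul_add, add_sub_add_comm]
        exact add_mem (hp k) (hq k)
      | monomial n a =>
        induction n generalizing k with
        | zero =>
          rw [monomial_zero_left, show (C a : A[X]) = a • (1 : A[X]) by rw [smul_eq_C_mul, mul_one],
            TensorProduct.smul_tmul, smul_assoc, one_smul, sub_self]
          exact zero_mem _
        | succ n ih =>
          have e : (monomial (n + 1) a : A[X]) = X * monomial n a := by
            rw [← monomial_one_one_eq_X, monomial_mul_monomial, one_mul, add_comm]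
          have := add_mem (LinearMap.mem_range_self u ((monomial n a : A[X]) ⊗ₜ[A] k)) (ih ((X : A[X]) • k))
          rw [hu, ← e, ← mul_smul, mul_comm (monomial n a : A[X]) X, ← e, sub_add_sub_cancel] at this
          exact this
  have hsurj : Function.Surjective μ := fun k => ⟨(1 : A[X]) ⊗ₜ k, by rw [hμ, one_smul]⟩
  have hinj : Function.Injective u := by
    let c : ℕ → (A[X] ⊗[A] K →ₗ[A] K) := fun i =>
      (TensorProduct.lid A K).toLinearMap ∘ₗ (lcoeff A i).rTensor K
    have hc : ∀ i p k, c i (p ⊗ₜ k) = p.coeff i • k := fun i p k => rfl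
    have hcu : ∀ i z, c (i + 1) (u z) = c i z - x (c (i + 1) z) := fun i z => by
      induction z using TensorProduct.induction_on with
      | zero => simp
      | add a b ha hb => simp only [map_add, ha, hb]; abel
      | tmul p k =>
        rw [hu, map_sub, hc, hc, hc, hc, coeff_X_mul, map_smul]
        rfl
    have hbound : ∀ z, ∃ N, ∀ i, N ≤ i → c i z = 0 := fun z => by
      induction z using TensorProduct.induction_on with
      | zero => exact ⟨0, fun i _ => map_zero _⟩
      | tmul p k => exact ⟨p.natDegree + 1, fun i hi => by rw [hc, coeff_eq_zero_of_natDegree_lt (by omega), zero_smul]⟩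
      | add a b ha hb =>
        obtain ⟨Na, ha⟩ := ha
        obtain ⟨Nb, hb⟩ := hb
        exact ⟨max Na Nb, fun i hi => by rw [map_add, ha i (le_of_max_le_left hi), hb i (le_of_max_le_right hi), add_zero]⟩
    rw [injective_iff_map_eq_zero]
    intro z hz
    obtain ⟨N, hN⟩ := hbound z
    have h0 : ∀ m i, N ≤ i + m → c i z = 0 := by
      intro m
      induction m with
      | zero => exact fun i hi => hN i hi
      | succ m ih =>
        intro i hi
        have := hcu i z
        rw [hz, map_zero, ih (i + 1) (by omega), map_zero, sub_zero] at this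
        exact this.symm
    let e := TensorProduct.equivFinsuppOfBasisLeft (N := K) (Polynomial.basisMonomials A)
    apply e.injective
    ext i
    rw [map_zero, Finsupp.zero_apply, show e z i = c i z from ?_, h0 N i (by omega)]
    rw [TensorProduct.equivFinsuppOfBasisLeft_apply]
    rfl
  exact torDimLE_of_exact u μ hinj hsurj hex (PerfMor.torDimLE_baseChange A A[X] j K h)
    (torDimLE_mono (Nat.le_succ j) (PerfMor.torDimLE_baseChange A A[X] j K h))

/-- Modules over a polynomial ring that are flat over the base. -/
theorem torDimLE_mvPolynomial (A : Type u) [CommRing A] :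
    ∀ (n : ℕ) (K : Type u) [AddCommGroup K] [Module (MvPolynomial (Fin n) A) K] [Module A K]
      [IsScalarTower A (MvPolynomial (Fin n) A) K] [Module.Flat A K],
      DRing.HasTorDimLE (MvPolynomial (Fin n) A) n K := by
  intro n
  induction n with
  | zero =>
    intro K _ _ _ _ _
    let e : MvPolynomial (Fin 0) A ≃ₐ[A] A := MvPolynomial.isEmptyAlgEquiv A (Fin 0)
    letI : Algebra A (MvPolynomial (Fin 0) A) := inferInstance
    haveI : Module.Free A (MvPolynomial (Fin 0) A) := Module.Free.of_equiv e.symm.toLinearEquiv
    haveI : Algebra.FormallyUnramified A (MvPolynomial (Fin 0) A) := Algebra.FormallyUnramified.of_equiv e.symm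
    exact torDimLE_of_unramified A _ K ((DRingTor.torDimLE_zero_iff (ModuleCat.of A K)).2 inferInstance)
  | succ n ih =>
    intro K _ _ _ _ _
    let B := MvPolynomial (Fin n) A
    let P := MvPolynomial (Fin (n + 1)) A
    let e : P ≃ₐ[A] B[X] := MvPolynomial.finSuccEquiv A n
    letI : Module B[X] K := Module.compHom K e.symm.toRingEquiv.toRingHom
    letI : Module B K := Module.compHom K (e.symm.toRingEquiv.toRingHom.comp Polynomial.C)
    haveI : IsScalarTower B B[X] K := IsScalarTower.of_algebraMap_smul fun _ _ => rfl
    haveI : IsScalarTower A B K := IsScalarTower.of_algebraMap_smul fun a k => by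
      show e.symm (Polynomial.C (MvPolynomial.C a)) • k = a • k
      rw [show Polynomial.C (MvPolynomial.C a : B) = algebraMap A B[X] a from rfl, e.symm.commutes, algebraMap_smul]
    have h1 := torDimLE_polynomial B K (ih K)
    letI : Algebra B[X] P := e.symm.toRingEquiv.toRingHom.toAlgebra
    let e' : B[X] ≃ₐ[B[X]] P := { e.symm.toRingEquiv with commutes' := fun _ => rfl }
    haveI : Module.Free B[X] P := Module.Free.of_equiv e'.toLinearEquiv
    haveI : Algebra.FormallyUnramified B[X] P := Algebra.FormallyUnramified.of_equiv e'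
    haveI : Algebra.FiniteType B[X] P := Algebra.FiniteType.of_surjective e'.toAlgHom e'.surjective
    haveI : IsScalarTower B[X] P K := IsScalarTower.of_algebraMap_smul fun _ _ => rfl
    exact torDimLE_of_unramified B[X] P K h1

/-- The tensor product of a module flat over `B` with a module flat over `A` is flat over `A`. -/
theorem flat_tensor (A : Type u) {B : Type u} [CommRing A] [CommRing B] [Algebra A B] (M K : Type u) [AddCommGroup M]
    [Module B M] [Module A M] [IsScalarTower A B M] [Module.Flat B M] [AddCommGroup K] [Module B K] [Module A K]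
    [IsScalarTower A B K] [Module.Flat A K] : Module.Flat A (M ⊗[B] K) := by
  refine Module.Flat.iff_lTensor_preserves_injective_linearMap.2 fun N N' _ _ _ _ f hf => ?_
  let g : K ⊗[A] N →ₗ[B] K ⊗[A] N' := TensorProduct.AlgebraTensorModule.lTensor B K f
  have hg : Function.Injective (g.lTensor M) :=
    Module.Flat.lTensor_preserves_injective_linearMap g (Module.Flat.lTensor_preserves_injective_linearMap f hf)
  let eN := TensorProduct.AlgebraTensorModule.assoc A B B M K N
  let eN' := TensorProduct.AlgebraTensorModule.assoc A B B M K N'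
  have hnat : ∀ z, eN' (f.lTensor (M ⊗[B] K) z) = g.lTensor M (eN z) := fun z => by
    induction z using TensorProduct.induction_on with
    | zero => simp
    | add a b ha hb => simp only [map_add, ha, hb]
    | tmul w n =>
      induction w using TensorProduct.induction_on with
      | zero => simp
      | add a b ha hb => simp only [TensorProduct.add_tmul, map_add, ha, hb]
      | tmul m k => rfl
  intro a b hab
  apply eN.injective
  apply hg
  rw [← hnat, ← hnat, hab]

/-- Vanishing of `Tor` may be checked on a covering by basic opens. -/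
theorem torDimLE_of_span {B : Type u} [CommRing B] (s : Set B) (hs : Ideal.span s = ⊤) {d : ℕ} (K : Type u)
    [AddCommGroup K] [Module B K]
    (h : ∀ f ∈ s, DRing.HasTorDimLE (Localization.Away f) d (Localization.Away f ⊗[B] K)) :
    DRing.HasTorDimLE B d K := by
  intro N _ _ p hp
  refine subsingleton_of_forall_eq 0 fun z => ?_
  by_contra hz
  obtain ⟨m, hm, hle⟩ := Ideal.exists_le_maximal _ (show (Submodule.span B {z}).annihilator ≠ ⊤ from fun htop => hz (by
    simpa using (Submodule.mem_annihilator_span_singleton z (1 : B)).1 (htop ▸ Submodule.mem_top)))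
  obtain ⟨f, hf, hfm⟩ : ∃ f ∈ s, f ∉ m := by
    by_contra hcon
    push Not at hcon
    exact hm.ne_top (top_le_iff.1 (hs ▸ Ideal.span_le.2 hcon))
  let Bf := Localization.Away f
  haveI : Module.Flat B Bf := IsLocalization.flat Bf (Submonoid.powers f)
  obtain ⟨e⟩ := S2428.result B Bf K N p
  haveI := h f hf (Bf ⊗[B] N) p hp
  haveI : Subsingleton (Bf ⊗[B] DRing.Tor B p K N) := e.toEquiv.subsingleton
  obtain ⟨⟨c, k, rfl⟩, hc⟩ := (IsLocalizedModule.eq_zero_iff (Submonoid.powers f) (TensorProduct.mk B Bf _ 1)).1
    (Subsingleton.elim ((1 : Bf) ⊗ₜ[B] z) 0)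
  exact hfm (hm.isPrime.mem_of_pow_mem k (hle ((Submodule.mem_annihilator_span_singleton z _).2 hc)))

/-- Over a smooth algebra of relative dimension `n`, modules flat over the base have tor dimension at most `n`. -/
theorem torDimLE_of_flat_smooth (A B : Type u) [CommRing A] [CommRing B] [Algebra A B] [Algebra.Smooth A B] (n : ℕ)
    (hn : ∀ p : PrimeSpectrum B, Module.rankAtStalk (Ω[B⁄A]) p = n) (K : Type u) [AddCommGroup K] [Module B K]
    [Module A K] [IsScalarTower A B K] [Module.Flat A K] : DRing.HasTorDimLE B n K := by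
  obtain ⟨s, hs, hstd⟩ := Algebra.Smooth.exists_span_eq_top_isStandardSmooth A B
  refine torDimLE_of_span s hs K fun f hf => ?_
  let Bf := Localization.Away f
  rcases subsingleton_or_nontrivial Bf with hB | hB
  · haveI : Subsingleton (Bf ⊗[B] K) := Module.subsingleton Bf _
    exact fun N _ _ p hp => H23.ChiAdd.tor_zero_of_subsingleton (A := Bf) (Bf ⊗[B] K) N p
  haveI := hstd f hf
  haveI : Algebra.IsStandardSmoothOfRelativeDimension n A Bf := by
    rw [Algebra.IsStandardSmoothOfRelativeDimension.iff_of_isStandardSmooth]
    haveI : Algebra.FormallyEtale B Bf := Algebra.FormallyEtale.of_isLocalization (Submonoid.powers f)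
    let e := KaehlerDifferential.tensorKaehlerEquivOfFormallyEtale A B Bf
    haveI : Module.Free Bf (Ω[Bf⁄A]) := Algebra.IsStandardSmooth.free_kaehlerDifferential
    haveI : Nonempty (PrimeSpectrum Bf) := inferInstance
    obtain ⟨q⟩ := ‹Nonempty (PrimeSpectrum Bf)›
    have h1 := Module.rankAtStalk_baseChange (R := B) (M := Ω[B⁄A]) (S := Bf) q
    rw [hn, Module.rankAtStalk_eq_of_equiv e, Module.rankAtStalk_eq_finrank_of_free, Pi.natCast_def] at h1
    simp only [Nat.cast_id] at h1
    haveI : Module.Finite Bf (Ω[Bf⁄A]) := inferInstance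
    rw [← Module.finrank_eq_rank, h1]
  obtain ⟨g, hg⟩ := Algebra.IsStandardSmoothOfRelativeDimension.exists_etale_mvPolynomial n A Bf
  let C := MvPolynomial (Fin n) A
  letI : Algebra C Bf := g.toRingHom.toAlgebra
  haveI : Algebra.Etale C Bf := hg
  haveI : IsScalarTower A C Bf := IsScalarTower.of_algebraMap_eq fun a => (g.commutes a).symm
  haveI : SMulCommClass B C Bf := SMulCommClass.of_commMonoid B C Bf
  haveI : IsScalarTower C Bf (Bf ⊗[B] K) := TensorProduct.isScalarTower_left
  haveI : IsScalarTower A C (Bf ⊗[B] K) := IsScalarTower.to₁₂₄ A C Bf (Bf ⊗[B] K)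
  haveI : Module.Flat B Bf := IsLocalization.flat Bf (Submonoid.powers f)
  haveI : Module.Flat A (Bf ⊗[B] K) := flat_tensor A Bf K
  exact torDimLE_of_unramified C Bf (Bf ⊗[B] K) (torDimLE_mvPolynomial A n (Bf ⊗[B] K))

/-- Tor dimension over a smooth algebra. -/
theorem torDimLE_smooth (A B : Type u) [CommRing A] [CommRing B] [Algebra A B] [Algebra.Smooth A B] (n : ℕ)
    (hn : ∀ p : PrimeSpectrum B, Module.rankAtStalk (Ω[B⁄A]) p = n) :
    ∀ (m : ℕ) (M : Type u) [AddCommGroup M] [Module B M] [Module A M] [IsScalarTower A B M],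
      DRing.HasTorDimLE A m M → DRing.HasTorDimLE B (m + n) M := by
  intro m
  induction m with
  | zero =>
    intro M _ _ _ _ h
    haveI : Module.Flat A M := (DRingTor.torDimLE_zero_iff (ModuleCat.of A M)).1 h
    rw [zero_add]
    exact torDimLE_of_flat_smooth A B n hn M
  | succ m ih =>
    intro M _ _ _ _ h
    let q : (M →₀ B) →ₗ[B] M := Finsupp.linearCombination B id
    have hq : Function.Surjective q := Finsupp.linearCombination_id_surjective B M
    haveI : Module.Flat A (M →₀ B) := Module.Flat.trans A B (M →₀ B)
    have hK : DRing.HasTorDimLE A m (LinearMap.ker q) :=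
      torDimLE_of_torExactFrom (Synt29.torExactFrom_ker (q.restrictScalars A) hq
        (Synt29.torExactFrom_of_hasTorDimLE h))
    have := ih (LinearMap.ker q) hK
    rw [Nat.add_right_comm m 1 n]
    exact torDimLE_of_exact (LinearMap.ker q).subtype q Subtype.val_injective hq (LinearMap.exact_subtype_ker_map q) this
      (torDimLE_mono (Nat.zero_le _) ((DRingTor.torDimLE_zero_iff (ModuleCat.of B (M →₀ B))).2 inferInstance))

end Groth.Agent.TorSmooth
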